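import Groth.Agent.BlowUpLib.Basic
import Groth.Agent.BlowUpExist.Global
import Groth.Agent.Cohen.Completion
import Groth.Prelude.Def_BlowUp2
import Groth.Prelude.Def_Curv2
import Groth.Prelude.Def_FEt

/-!
Admissible blow-ups of the completion descend.
-/

set_option autoImplicit false
set_option backward.isDefEq.respectTransparency false
set_option backward.isDefEq.respectTransparency.types false
set_option linter.style.haveILetI false
set_option maxHeartbeats 1000000

universe u

open CategoryTheory CategoryTheory.Limits AlgebraicGeometry TopologicalSpace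

noncomputable section

namespace Groth.Agent.AdmDescend

theorem iso_unique {X Y Y' : Scheme.{u}} {I : X.IdealSheafData} {b : Y ⟶ X} {b' : Y' ⟶ X}
    (hb : BlowUp.IsBlowUp b I) (hb' : BlowUp.IsBlowUp b' I) : ∃ e : Y ≅ Y', e.hom ≫ b' = b := by
  obtain ⟨u, hu, -⟩ := hb'.2 Y b hb.1
  obtain ⟨v, hv, -⟩ := hb.2 Y' b' hb'.1
  have h1 : u ≫ v = 𝟙 Y := (hb.2 Y b hb.1).unique
    (show (u ≫ v) ≫ b = b by rw [Category.assoc, hv, hu]) (Category.id_comp b)
  have h2 : v ≫ u = 𝟙 Y' := (hb'.2 Y' b' hb'.1).unique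
    (show (v ≫ u) ≫ b' = b' by rw [Category.assoc, hu, hv]) (Category.id_comp b')
  exact ⟨⟨u, v, h1, h2⟩, hu⟩

theorem comap_map_invΓ (R : CommRingCat.{u}) (I : Ideal R) :
    (I.map (Scheme.ΓSpecIso R).inv.hom).comap (Scheme.ΓSpecIso R).inv.hom = I :=
  Ideal.comap_map_of_bijective _ (ConcreteCategory.bijective_of_isIso (Scheme.ΓSpecIso R).inv)

theorem main (A : Type u) [CommRing A] [IsLocalRing A] [IsNoetherianRing A] (Y : Scheme.{u})
    (c : Y ⟶ Spec (CommRingCat.of (Curv2.cpl A))) (J : (Spec (CommRingCat.of (Curv2.cpl A))).IdealSheafData)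
    (hJ : BlowUp.IsAdmissibleFor (FEt.puncturedSpec (Curv2.cpl A)) J) (hc : BlowUp.IsBlowUp c J) :
    ∃ (I : (Spec (CommRingCat.of A)).IdealSheafData) (X : Scheme.{u}) (b : X ⟶ Spec (CommRingCat.of A)),
      BlowUp.IsAdmissibleFor (FEt.puncturedSpec A) I ∧ BlowUp.IsBlowUp b I ∧
        ∃ e : Y ≅ Curv2.bcCpl A b, e.hom ≫ Curv2.bcCplSnd A b = c := by
  let S := Curv2.cpl A
  let φ : A →+* S := algebraMap A S
  let iA := (Scheme.ΓSpecIso (CommRingCat.of A)).inv
  let iS := (Scheme.ΓSpecIso (CommRingCat.of S)).inv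
  let Jt := J.ideal ⟨⊤, isAffineOpen_top _⟩
  let J₀ : Ideal S := Jt.comap iS.hom
  have hJt : J₀.map iS.hom = Jt :=
    Ideal.map_comap_of_surjective _ (ConcreteCategory.bijective_of_isIso iS).2 _
  have hJ' : J = Scheme.IdealSheafData.ofIdealTop Jt := Scheme.IdealSheafData.ext_of_isAffine (by simp [Jt])
  have hrad : IsLocalRing.maximalIdeal S ≤ J₀.radical := by
    rw [Ideal.radical_eq_sInf, le_sInf_iff]
    intro (P : Ideal S) hP
    by_contra hle
    have hmem : (⟨P, hP.2⟩ : PrimeSpectrum S) ∈ ((J.support : Closeds _) : Set (Spec (CommRingCat.of S))) := by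
      rw [hJ', Scheme.IdealSheafData.coe_support_ofIdealTop, Spec_zeroLocus]
      exact hP.1
    refine Set.disjoint_left.1 hJ.2 hmem ?_
    intro h
    exact hle (congrArg PrimeSpectrum.asIdeal h).ge
  obtain ⟨N, hN⟩ := Ideal.exists_pow_le_of_le_radical_of_fg hrad (IsLocalRing.maximalIdeal S).fg_of_isNoetherianRing
  let I₀ : Ideal A := J₀.comap φ
  have hmS : IsLocalRing.maximalIdeal S = (IsLocalRing.maximalIdeal A).map φ := AdicCompletion.maximalIdeal_eq_map
  have hIm : IsLocalRing.maximalIdeal A ^ N ≤ I₀ := by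
    refine Ideal.map_le_iff_le_comap.1 ?_
    rw [Ideal.map_pow, ← hmS]
    exact hN
  have hIJ : I₀.map φ = J₀ := by
    refine le_antisymm Ideal.map_comap_le fun x hx => ?_
    obtain ⟨a, ha⟩ := Cohen.exists_sub_mem_pow x N
    have haI : a ∈ I₀ := by
      show φ a ∈ J₀
      have := J₀.sub_mem hx (hN ha)
      simpa [φ] using this
    have : x - φ a ∈ I₀.map φ := Ideal.map_mono hIm (by rw [Ideal.map_pow, ← hmS]; exact ha)
    simpa using add_mem this (Ideal.mem_map_of_mem φ haI)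
  let I : (Spec (CommRingCat.of A)).IdealSheafData := Scheme.IdealSheafData.ofIdealTop (I₀.map iA.hom)
  let g := Spec.map (CommRingCat.ofHom φ)
  have hcomap : I.comap g = J := by
    refine Scheme.IdealSheafData.ext_of_isAffine ?_
    rw [FpqcDescent.ideal_comap_appLE I g ⟨⊤, isAffineOpen_top _⟩ ⟨⊤, isAffineOpen_top _⟩ le_top]
    have hI : I.ideal ⟨⊤, isAffineOpen_top _⟩ = I₀.map iA.hom := by simp [I]
    have hnat : g.appLE ⊤ ⊤ le_top = g.appTop := by simp [Scheme.Hom.appLE, Scheme.Hom.appTop]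
    rw [hI, hnat, Ideal.map_map, ← CommRingCat.hom_comp,
      show iA ≫ g.appTop = CommRingCat.ofHom φ ≫ iS from (Scheme.ΓSpecIso_inv_naturality (CommRingCat.ofHom φ)).symm,
      CommRingCat.hom_comp, ← Ideal.map_map]
    rw [show (CommRingCat.ofHom φ).hom = φ from rfl, hIJ, hJt]
  obtain ⟨X, b, hb⟩ := BlowUpExist.exists_isBlowUp _ I
  refine ⟨I, X, b, ⟨fun U => ?_, ?_⟩, hb, ?_⟩
  · haveI : IsNoetherianRing Γ(Spec (CommRingCat.of A), U.1) := IsLocallyNoetherian.component_noetherian U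
    exact IsNoetherian.noetherian _
  · rw [Set.disjoint_left]
    intro p hp hpU
    apply hpU
    rw [Scheme.IdealSheafData.coe_support_ofIdealTop, Spec_zeroLocus] at hp
    have h1 : I₀ ≤ PrimeSpectrum.asIdeal p := fun a ha => hp (Ideal.mem_map_of_mem iA.hom ha)
    refine PrimeSpectrum.ext ?_
    exact ((IsLocalRing.maximalIdeal.isMaximal A).eq_of_le p.isPrime.ne_top
      (p.isPrime.le_of_pow_le (hIm.trans h1))).symm
  haveI : Module.FaithfullyFlat A S := Module.FaithfullyFlat.of_flat_of_isLocalHom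
  haveI : Flat g := (HasRingHomProperty.Spec_iff (P := @Flat)).2 (RingHom.flat_algebraMap_iff.2 inferInstance)
  have h := BlowUpLib.isBlowUp_flat g hb
  rw [hcomap] at h
  obtain ⟨e, he⟩ := iso_unique hc h
  refine ⟨e ≪≫ pullbackSymmetry g b, ?_⟩
  rw [Iso.trans_hom, Category.assoc]
  refine Eq.trans ?_ he
  congr 1
  exact pullbackSymmetry_hom_comp_snd g b

end Groth.Agent.AdmDescend
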